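import Groth.Agent.Lib.Embed24.Sep
import Groth.Agent.Lib.EtFlasque24.Push
import Groth.Agent.Lib.EtColim.Torsion
import Groth.Agent.Lib.EtStalk.FiniteStalk
import Mathlib.AlgebraicGeometry.Limits

/-!
# Cohomology of disjoint unions of separably closed points
-/

set_option autoImplicit false
set_option linter.style.haveILetI false
set_option linter.unusedSectionVars false
set_option backward.isDefEq.respectTransparency.types false

universe u

open CategoryTheory CategoryTheory.Limits AlgebraicGeometry Opposite CategoryTheory.Abelian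

namespace Groth.Agent.Embed24

open Groth.Agent.EtStalk

variable {I : Type u} (Ω : I → Type u) [∀ i, Field (Ω i)]

/-- The points. -/
noncomputable abbrev ptsι (i : I) : Spec (CommRingCat.of (Ω i)) ⟶ (∐ fun i => Spec (CommRingCat.of (Ω i))) :=
  Sigma.ι (fun i => Spec (CommRingCat.of (Ω i))) i

/-- The points as etale schemes. -/
noncomputable abbrev ptEt (i : I) : (∐ fun i => Spec (CommRingCat.of (Ω i)) : Scheme.{u}).Etale :=
  Scheme.Etale.mk (ptsι Ω i)

lemma hom_ptEt_unique {i j : I} (a : ptEt Ω j ⟶ ptEt Ω i) : j = i := by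
  by_contra hne
  have e : (𝟙 (Spec (CommRingCat.of (Ω j)))) ≫ ptsι Ω j = a.left ≫ ptsι Ω i :=
    (Category.id_comp _).trans (MorphismProperty.Over.w a).symm
  haveI := isEmpty_of_commSq_sigmaι_of_ne ⟨e⟩ hne
  exact IsEmpty.false (default : Spec (CommRingCat.of (Ω j)))

lemma endo_ptEt {i : I} (a : ptEt Ω i ⟶ ptEt Ω i) : a = 𝟙 _ := by
  refine MorphismProperty.Over.Hom.ext ?_
  refine (cancel_mono (ptsι Ω i)).1 ?_
  exact (MorphismProperty.Over.w a).trans (Category.id_comp _).symm

variable [∀ i, IsSepClosed (Ω i)]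

lemma exists_ptEt_hom (W : (∐ fun i => Spec (CommRingCat.of (Ω i)) : Scheme.{u}).Etale) (w : W.left) :
    ∃ (i : I) (σ : ptEt Ω i ⟶ W), σ.left (default : Spec (CommRingCat.of (Ω i))) = w := by
  obtain ⟨⟨i, y⟩, hy⟩ := (sigmaMk fun i => Spec (CommRingCat.of (Ω i))).surjective (W.hom w)
  rw [sigmaMk_mk] at hy
  obtain ⟨z, hz, -⟩ := Scheme.Pullback.exists_preimage_pullback (f := W.hom) (g := ptsι Ω i) w y hy.symm
  haveI : IsSepClosed (IsLocalRing.ResidueField (Ω i)) := EtDesc24.isSepClosed_residueField (Ω i)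
  obtain ⟨W', g, w', ⟨e⟩, hw'⟩ := isEtBasis_top (Ω i) ((EtCoh.bc (ptsι Ω i)).obj W) z
  let τ := e.hom ≫ g
  haveI : Subsingleton (Spec (CommRingCat.of (Ω i))) := inferInstanceAs (Subsingleton (PrimeSpectrum (Ω i)))
  have hw : (τ.left ≫ pullback.fst W.hom (ptsι Ω i)) ≫ W.hom = ptsι Ω i := by
    exact (Category.assoc _ _ _).trans ((congrArg (τ.left ≫ ·) pullback.condition).trans
      ((Category.assoc _ _ _).symm.trans
        ((congrArg (fun q => q ≫ ptsι Ω i) (MorphismProperty.Over.w τ)).trans (Category.id_comp _))))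
  refine ⟨i, MorphismProperty.Over.homMk (τ.left ≫ pullback.fst W.hom (ptsι Ω i)) hw, ?_⟩
  show pullback.fst W.hom (ptsι Ω i) (τ.left (default : Spec (CommRingCat.of (Ω i)))) = w
  have h1 : τ.left (default : Spec (CommRingCat.of (Ω i))) = z := by
    rw [← hw']
    show g.left (e.hom.left _) = g.left w'
    refine congrArg _ ?_
    have h2 : w' = e.hom.left (e.inv.left w') := by
      conv_lhs => rw [show w' = (𝟙 W' : W' ⟶ W').left w' from rfl, ← e.inv_hom_id]
      rfl
    rw [h2]
    exact congrArg _ (Subsingleton.elim (α := Spec (CommRingCat.of (Ω i))) _ _)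
  rw [h1, hz]

variable {A B : EtCoh.Ab (∐ fun i => Spec (CommRingCat.of (Ω i)) : Scheme.{u})}

/-- Epimorphisms are surjective on sections. -/
theorem surjective_app_of_epi (e : A ⟶ B) [Epi e]
    (W : (∐ fun i => Spec (CommRingCat.of (Ω i)) : Scheme.{u}).Etale) :
    Function.Surjective (e.hom.app (op W)) := by
  haveI hs : Sheaf.IsLocallySurjective e := (Sheaf.isLocallySurjective_iff_epi' _ e).2 inferInstance
  have hpt : ∀ i, Function.Surjective (e.hom.app (op (ptEt Ω i))) := fun i s => by
    have h := Presheaf.imageSieve_mem (Scheme.smallEtaleTopology _) e.hom (U := op (ptEt Ω i)) s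
    rw [EtSite.mem_et_iff] at h
    obtain ⟨W', g, w', ⟨t, ht⟩, -⟩ := h (default : Spec (CommRingCat.of (Ω i)))
    obtain ⟨j, σ, -⟩ := exists_ptEt_hom Ω W' w'
    obtain rfl : j = i := hom_ptEt_unique Ω (σ ≫ g)
    refine ⟨A.obj.map σ.op t, ?_⟩
    rw [NatTrans.naturality_apply, ht, ← Functor.map_comp_apply, ← op_comp, endo_ptEt Ω (σ ≫ g), op_id,
      Functor.map_id_apply]
  intro s
  choose i σ hσ using exists_ptEt_hom Ω W
  choose t ht using fun w => hpt (i w) (B.obj.map (σ w).op s)
  have hcov : Sieve.generate (Presieve.ofArrows (fun w => ptEt Ω (i w)) σ) ∈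
      Scheme.smallEtaleTopology _ W := by
    rw [EtSite.mem_et_iff]
    exact fun w => ⟨_, σ w, (default : Spec (CommRingCat.of (Ω (i w)))),
      Sieve.le_generate _ _ _ (Presieve.ofArrows.mk w), hσ w⟩
  have hsh := (Presieve.isSheafFor_iff_generate _).2
    (((isSheaf_iff_isSheaf_of_type _ _).1
      ((Presheaf.isSheaf_iff_isSheaf_forget _ A.obj (forget _)).1 A.property)) _ hcov)
  rw [Presieve.isSheafFor_arrows_iff] at hsh
  have hcompat : ∀ (v w : W.left) (Z : (∐ fun i => Spec (CommRingCat.of (Ω i)) : Scheme.{u}).Etale)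
      (gv : Z ⟶ ptEt Ω (i v)) (gw : Z ⟶ ptEt Ω (i w)), gv ≫ σ v = gw ≫ σ w →
      A.obj.map gv.op (t v) = A.obj.map gw.op (t w) := by
    intro v w Z gv gw h
    by_cases hvw : v = w
    · subst hvw
      haveI : Mono (σ v) := by
        haveI : Mono ((σ v).left ≫ W.hom) := by
          rw [MorphismProperty.Over.w (σ v)]; exact inferInstanceAs (Mono (ptsι Ω (i v)))
        haveI : Mono (σ v).left := mono_of_mono (σ v).left W.hom
        exact (MorphismProperty.Over.forget _ _ _).mono_of_mono_map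
          ((Over.forget _).mono_of_mono_map (inferInstanceAs (Mono (σ v).left)))
      rw [(cancel_mono (σ v)).1 h]
    · haveI : ∀ k, Subsingleton (Spec (CommRingCat.of (Ω k))) := fun k =>
        inferInstanceAs (Subsingleton (PrimeSpectrum (Ω k)))
      have : IsEmpty Z.left := ⟨fun z => hvw (by
        rw [← hσ v, ← hσ w, ← Subsingleton.elim (α := Spec (CommRingCat.of (Ω (i v)))) (gv.left z) default,
          ← Subsingleton.elim (α := Spec (CommRingCat.of (Ω (i w)))) (gw.left z) default]
        exact congrArg (fun q : Z ⟶ W => q.left z) h)⟩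
      exact eq_of_agree A fun z => isEmptyElim z
  obtain ⟨x, hx, -⟩ := hsh t hcompat
  refine ⟨x, ?_⟩
  have hshB := (Presieve.isSheafFor_iff_generate _).2
    (((isSheaf_iff_isSheaf_of_type _ _).1
      ((Presheaf.isSheaf_iff_isSheaf_forget _ B.obj (forget _)).1 B.property)) _ hcov)
  refine hshB.isSeparatedFor.ext fun Z f hf => ?_
  obtain ⟨w⟩ := hf
  show B.obj.map (σ w).op (e.hom.app (op W) x) = B.obj.map (σ w).op s
  rw [← NatTrans.naturality_apply, ← ht w]
  exact congrArg _ (hx w)

/-- Sheaves on disjoint unions of separably closed points are flasque. -/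
theorem acyc_pts (F : EtCoh.Ab (∐ fun i => Spec (CommRingCat.of (Ω i)) : Scheme.{u})) : EtFlasque24.Acyc F := by
  intro W q hq
  obtain ⟨q, rfl⟩ := Nat.exists_eq_succ_of_ne_zero hq.ne'
  haveI : AlgebraicGeometry.Etale W.hom := W.prop
  haveI : Projective (zExt W.hom) := ⟨fun {E G} f e _ => by
    let ψ := EtColim.zExtSectIso W
    obtain ⟨t, ht⟩ := surjective_app_of_epi Ω e W ((ψ.hom.app G) f)
    refine ⟨(ψ.inv.app E) t, ?_⟩
    apply (ConcreteCategory.bijective_of_isIso (ψ.hom.app G)).1
    refine Eq.trans ?_ ht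
    refine (NatTrans.naturality_apply ψ.hom e ((ψ.inv.app E) t)).trans ?_
    exact congrArg (e.hom.app (op W)) (CategoryTheory.Iso.inv_hom_id_app_apply ψ E t)⟩
  haveI : Subsingleton (Ext (zExt W.hom) F (q + 1)) :=
    subsingleton_of_forall_eq 0 fun x => Ext.eq_zero_of_projective x
  exact (extCohEquiv W.hom F (q + 1)).symm.toEquiv.subsingleton

end Groth.Agent.Embed24
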