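import Groth.Agent.Lib.Embed24.Main
import Groth.Agent.Lib.Embed24.Points
import Groth.Agent.Lib.Constr24.IndConstr
import Groth.Agent.Lib.EtAcyc24.IntegralBase

/-!
# Cohomology is effaceable in constructible sheaves
-/

set_option autoImplicit false
set_option linter.style.haveILetI false
set_option linter.unusedSectionVars false
set_option backward.isDefEq.respectTransparency.types false

universe u

open CategoryTheory CategoryTheory.Limits AlgebraicGeometry Opposite CategoryTheory.Abelian

namespace Groth.Agent.Embed24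

open Groth.Agent.EtStalk

variable {X : Scheme.{u}} [CompactSpace X] [QuasiSeparatedSpace X]

/-- A constructible sheaf is killed by a positive integer. -/
theorem exists_nsmul_id_eq_zero {F : EtCoh.Ab X} (hF : EtPBC.IsConstructible F) :
    ∃ m : ℕ, 0 < m ∧ m • 𝟙 F = 0 := by
  classical
  obtain ⟨n, Y, f, _, _, M, _, hM, ι, hι⟩ := exists_embedding hF
  let m := ∏ i, Nat.card (M i)
  refine ⟨m, Finset.prod_pos fun i _ => Nat.card_pos, ?_⟩
  have hc : ∀ i, m • 𝟙 ((EtCoh.push (f i)).obj (EtCoh.const (Y i) (M i))) = 0 := fun i => by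
    haveI : (EtCoh.push (f i)).Additive := (EtCoh.pullPushAdj (f i)).right_adjoint_additive
    have e : m • 𝟙 (AddCommGrpCat.of (ULift.{u + 1} (M i))) = 0 := by
      ext a
      show (m • a : ULift.{u + 1} (M i)).down = 0
      obtain ⟨c, hc⟩ := Finset.dvd_prod_of_mem (fun i => Nat.card (M i)) (Finset.mem_univ i)
      show m • a.down = 0
      rw [show m = Nat.card (M i) * c from hc, mul_comm, mul_nsmul', card_nsmul_eq_zero', nsmul_zero]
    have e' : m • 𝟙 (EtCoh.const (Y i) (M i)) = 0 := by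
      show m • 𝟙 ((LocAcyc24.cs (Y i)).obj (AddCommGrpCat.of (ULift.{u + 1} (M i)))) = 0
      rw [← CategoryTheory.Functor.map_id, ← Functor.map_nsmul, e, Functor.map_zero]
    rw [← CategoryTheory.Functor.map_id, ← Functor.map_nsmul, e', Functor.map_zero]
  rw [← cancel_mono ι]
  refine biproduct.hom_ext _ _ fun i => ?_
  rw [Preadditive.nsmul_comp, Category.id_comp, Preadditive.nsmul_comp, zero_comp, zero_comp]
  calc m • (ι ≫ biproduct.π _ i) = (ι ≫ biproduct.π _ i) ≫ (m • 𝟙 _) := by
        rw [Preadditive.comp_nsmul, Category.comp_id]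
    _ = 0 := by rw [hc i, comp_zero]

/-- Cohomology is effaceable in constructible sheaves. -/
theorem exists_efface {F : EtCoh.Ab X} (hF : EtPBC.IsConstructible F) (q : ℕ) (hq : 0 < q)
    (α : EtCoh.H X F q) :
    ∃ (G : EtCoh.Ab X) (u : F ⟶ G), EtPBC.IsConstructible G ∧ Mono u ∧ (EtCoh.HF X q).map u α = 0 := by
  classical
  obtain ⟨m, hm, hmF⟩ := exists_nsmul_id_eq_zero hF
  let Ω : X → Type u := fun x => SeparableClosure (X.residueField x)
  let p : (∐ fun x => Spec (CommRingCat.of (Ω x))) ⟶ X := Sigma.desc fun x => pt X x (Ω x)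
  let G := (EtCoh.push p).obj ((EtCoh.pull p).obj F)
  let u : F ⟶ G := (EtCoh.pullPushAdj p).unit.app F
  have hu : Mono u := by
    refine Preadditive.mono_of_isZero_kernel u ?_
    rw [isZero_iff_stalk]
    intro Θ _ _ ξ
    let x := ξ default
    let j := ptsι Ω x
    haveI : IsSepClosed (IsLocalRing.ResidueField (Ω x)) := EtDesc24.isSepClosed_residueField _
    haveI : (EtCoh.pull p).Additive := (EtCoh.pullPushAdj p).left_adjoint_additive
    haveI : IsSplitMono ((EtCoh.pull p).map u) :=
      ⟨⟨⟨(EtCoh.pullPushAdj p).counit.app _, (EtCoh.pullPushAdj p).left_triangle_components F⟩⟩⟩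
    have hk : IsZero ((EtCoh.pull p).obj (kernel u)) :=
      IsZero.of_iso (isZero_kernel_of_mono _) (PreservesKernel.iso (EtCoh.pull p) u)
    have h0 : Subsingleton ((EtCoh.stalk ((closedPt (Ω x) ≫ j) ≫ p)).obj (kernel u)) := by
      haveI := AddCommGrpCat.subsingleton_of_isZero ((isZero_iff_stalk _).1 hk _ (closedPt (Ω x) ≫ j))
      exact (Equiv.ofBijective _
        (ConcreteCategory.bijective_of_isIso (stalkPull p (closedPt (Ω x) ≫ j) (kernel u)))).subsingleton
    refine Constr24.isZero_stalk_congr ξ ((closedPt (Ω x) ≫ j) ≫ p) ?_ h0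
    rw [Category.assoc, Scheme.Hom.comp_apply]
    exact ((congrArg (fun r : Spec (CommRingCat.of (Ω x)) ⟶ X => r (closedPt (Ω x) default))
      (Sigma.ι_desc _ x)).trans (pt_apply X x (Ω x) _)).symm
  have hG0 : m • 𝟙 G = 0 := by
    haveI : (EtCoh.push p).Additive := (EtCoh.pullPushAdj p).right_adjoint_additive
    show m • 𝟙 ((EtCoh.push p).obj _) = 0
    rw [← CategoryTheory.Functor.map_id, ← Functor.map_nsmul, EtAcyc24.nsmul_id_pull p hmF, Functor.map_zero]
  have hGt : EtCoh.IsTorsion G := fun U s x => ⟨U, 𝟙 U, ⟨x, rfl⟩, isOfFinAddOrder_iff_nsmul_eq_zero.2 ⟨m, hm, by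
    rw [op_id, CategoryTheory.Functor.map_id]
    have h1 := EtAcyc24.nsmul_id_app G m _ s
    rw [hG0] at h1
    exact h1.symm⟩⟩
  haveI hG : Subsingleton (EtCoh.H X G q) := by
    have h1 := EtFlasque24.acyc_push p (acyc_pts Ω ((EtCoh.pull p).obj F)) (EtCoh.top X) q hq
    haveI : IsIso (EtCoh.top X).hom := inferInstanceAs (IsIso (𝟙 X))
    exact @Function.Injective.subsingleton _ _ _ (LocAcyc24.bijective_Hpull_of_isIso (EtCoh.top X).hom G q).1 h1
  haveI := Constr24.isFiltered_indCat (F := G)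
  obtain ⟨hcc⟩ := Constr24.nonempty_isColimit_indCocone hGt
  obtain ⟨d, e, he⟩ := Constr24.exists_indObj hF u
  haveI := EtColim.preservesColimitsOfShape_HF X q (Constr24.IndCat G)
  have hzero : (EtCoh.HF X q).map ((Constr24.indCocone G).ι.app d) ((EtCoh.HF X q).map e.hom α) =
      (EtCoh.HF X q).map ((Constr24.indCocone G).ι.app d) 0 := @Subsingleton.elim _ hG _ _
  obtain ⟨k, a, b, hab⟩ := Concrete.isColimit_exists_of_rep_eq (Constr24.indDiag G ⋙ EtCoh.HF X q)
    (isColimitOfPreserves (EtCoh.HF X q) hcc) _ _ hzero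
  refine ⟨_, e.hom ≫ (Constr24.indDiag G).map a, Constr24.isConstructible_indDiag k, ?_, ?_⟩
  · haveI : Mono ((e.hom ≫ (Constr24.indDiag G).map a) ≫ Constr24.indι k) := by
      rw [Category.assoc, Constr24.indι_w, he]; exact hu
    exact mono_of_mono _ (Constr24.indι k)
  · rw [Functor.map_comp]
    exact hab.trans (map_zero _)

end Groth.Agent.Embed24
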