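import Groth.Agent.Lib.NormSep24.ConstPoint
import Groth.Agent.Lib.NeronEt19.Normal
import Mathlib.AlgebraicGeometry.Morphisms.Preimmersion
import Mathlib.AlgebraicGeometry.Normalization
import Mathlib.RingTheory.Localization.Integral

/-!
# The normalization in an algebraic field over a point

For a field `Ω` algebraic over the residue field of a point `x`, the point `Spec Ω` is the generic point of the
normalization of the scheme in it.
-/

set_option autoImplicit false
set_option linter.style.haveILetI false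
set_option linter.unusedSectionVars false
set_option backward.isDefEq.respectTransparency.types false

universe u

open CategoryTheory CategoryTheory.Limits AlgebraicGeometry Opposite

namespace Groth.Agent.Embed24

variable (X : Scheme.{u}) (x : X) (Ω : Type u) [Field Ω] [Algebra (X.residueField x) Ω]

/-- The point attached to an extension of a residue field. -/
noncomputable abbrev pt : Spec (CommRingCat.of Ω) ⟶ X :=
  Spec.map (CommRingCat.ofHom (algebraMap (X.residueField x) Ω)) ≫ X.fromSpecResidueField x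

lemma pt_apply (o : Spec (CommRingCat.of Ω)) : pt X x Ω o = x := by
  rw [Scheme.Hom.comp_apply]
  exact Scheme.fromSpecResidueField_apply _ _

/-- The values of functions at the point. -/
noncomputable abbrev val {U : X.Opens} (hx : x ∈ U) : Γ(X, U) ⟶ CommRingCat.of Ω :=
  X.presheaf.germ U x hx ≫ X.residue x ≫ CommRingCat.ofHom (algebraMap (X.residueField x) Ω)

lemma preimage_eq_top {U : X.Opens} (hx : x ∈ U) : pt X x Ω ⁻¹ᵁ U = ⊤ :=
  top_le_iff.1 fun o _ => show pt X x Ω o ∈ U by rw [pt_apply]; exact hx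

/-- The sections over the point are the field. -/
noncomputable def secIso {U : X.Opens} (hx : x ∈ U) :
    Γ(Spec (CommRingCat.of Ω), pt X x Ω ⁻¹ᵁ U) ≅ CommRingCat.of Ω :=
  (Spec (CommRingCat.of Ω)).presheaf.mapIso (eqToIso (preimage_eq_top X x Ω hx).symm).op ≪≫
    Scheme.ΓSpecIso (CommRingCat.of Ω)

lemma app_secIso {U : X.Opens} (hU : IsAffineOpen U) (hx : x ∈ U) :
    (pt X x Ω).app U ≫ (secIso X x Ω hx).hom = val X x Ω hx := by
  apply Spec.map_injective
  rw [← cancel_mono hU.fromSpec]
  have hv : Spec.map (val X x Ω hx) ≫ hU.fromSpec = pt X x Ω := by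
    rw [Spec.map_comp, Category.assoc]
    refine (congrArg (fun q => Spec.map (X.residue x ≫ CommRingCat.ofHom (algebraMap (X.residueField x) Ω)) ≫ q)
      (hU.fromSpecStalk_eq_fromSpecStalk hx)).trans ?_
    rw [Spec.map_comp, Category.assoc]
    rfl
  refine Eq.trans ?_ hv.symm
  have h := IsAffineOpen.SpecMap_appLE_fromSpec (pt X x Ω) hU (isAffineOpen_top (Spec (CommRingCat.of Ω)))
    (preimage_eq_top X x Ω hx).ge
  have e : (pt X x Ω).app U ≫ (secIso X x Ω hx).hom =
      (pt X x Ω).appLE U ⊤ (preimage_eq_top X x Ω hx).ge ≫ (Scheme.ΓSpecIso (CommRingCat.of Ω)).hom := by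
    rw [Scheme.Hom.appLE, Category.assoc]
    rfl
  rw [e, Spec.map_comp, Category.assoc, h, IsAffineOpen.fromSpec_top, Scheme.isoSpec_Spec_inv, ← Category.assoc,
    ← Spec.map_comp, Iso.inv_hom_id, Spec.map_id, Category.id_comp]

variable [Algebra.IsAlgebraic (X.residueField x) Ω]

lemma exists_integral_multiple {U : X.Opens} (hU : IsAffineOpen U) (hx : x ∈ U) (z : Ω) :
    ∃ a : Γ(X, U), val X x Ω hx a ≠ 0 ∧ (val X x Ω hx).hom.IsIntegralElem (z * val X x Ω hx a) := by
  letI : Algebra Γ(X, U) (X.presheaf.stalk x) := (X.presheaf.germ U x hx).hom.toAlgebra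
  let r : X.presheaf.stalk x →+* Ω := (algebraMap (X.residueField x) Ω).comp (X.residue x).hom
  letI : Algebra (X.presheaf.stalk x) Ω := r.toAlgebra
  letI : Algebra Γ(X, U) Ω := (val X x Ω hx).hom.toAlgebra
  haveI : IsScalarTower Γ(X, U) (X.presheaf.stalk x) Ω := IsScalarTower.of_algebraMap_eq' rfl
  haveI : IsLocalization.AtPrime (X.presheaf.stalk x) (hU.primeIdealOf ⟨x, hx⟩).asIdeal :=
    hU.isLocalization_stalk ⟨x, hx⟩
  have hint : IsIntegral (X.presheaf.stalk x) z := by
    have hk : IsIntegral (X.residueField x) z := Algebra.IsIntegral.isIntegral z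
    letI : Algebra (X.presheaf.stalk x) (X.residueField x) := (X.residue x).hom.toAlgebra
    haveI : IsScalarTower (X.presheaf.stalk x) (X.residueField x) Ω := IsScalarTower.of_algebraMap_eq' rfl
    haveI : Algebra.IsIntegral (X.presheaf.stalk x) (X.residueField x) := ⟨fun w => by
      obtain ⟨a, rfl⟩ := (IsLocalRing.residue_surjective : Function.Surjective (X.residue x).hom) w
      exact isIntegral_algebraMap⟩
    exact isIntegral_trans z hk
  obtain ⟨m, hm⟩ := IsIntegral.exists_multiple_integral_of_isLocalization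
    (hU.primeIdealOf ⟨x, hx⟩).asIdeal.primeCompl z hint
  refine ⟨m.1, ?_, ?_⟩
  · show algebraMap Γ(X, U) Ω m.1 ≠ 0
    rw [IsScalarTower.algebraMap_apply Γ(X, U) (X.presheaf.stalk x) Ω]
    exact ((IsLocalization.map_units (X.presheaf.stalk x) m).map _).ne_zero
  · show IsIntegral Γ(X, U) (z * algebraMap Γ(X, U) Ω m.1)
    rw [mul_comm, ← Algebra.smul_def]
    exact hm

variable [QuasiCompact (pt X x Ω)] [QuasiSeparated (pt X x Ω)]

instance isPreimmersion_toNormalization : IsPreimmersion (pt X x Ω).toNormalization := by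
  haveI hs : Subsingleton (Spec (CommRingCat.of Ω)) := inferInstanceAs (Subsingleton (PrimeSpectrum Ω))
  let f := pt X x Ω
  obtain ⟨U, hU, hx, -⟩ := exists_isAffineOpen_mem_and_subset (X := X) (x := x) (U := ⊤) trivial
  haveI : SurjectiveOnStalks f.toNormalization := ⟨fun o s => by
    obtain ⟨V, hoV, w, rfl⟩ := TopCat.Presheaf.exists_germ_eq _ s
    have hV : V = f ⁻¹ᵁ U := by
      ext p
      exact ⟨fun _ => show f p ∈ U by rw [pt_apply]; exact hx, fun _ => by rw [Subsingleton.elim p o]; exact hoV⟩
    subst hV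
    let ε := secIso X x Ω hx
    obtain ⟨a, ha, p, hp, hpe⟩ := exists_integral_multiple X x Ω hU hx (ε.hom w)
    letI := (f.app U).hom.toAlgebra
    have hb : ∀ b, ε.hom ((f.app U) b) = val X x Ω hx b :=
      fun b => ConcreteCategory.congr_hom (app_secIso X x Ω hU hx) b
    have hint : IsIntegral Γ(X, U) (w * (f.app U) a) := by
      refine ⟨p, hp, (ConcreteCategory.bijective_of_isIso ε.hom).1 ?_⟩
      show ε.hom.hom _ = ε.hom.hom 0
      rw [map_zero, Polynomial.hom_eval₂, map_mul]
      have e : ε.hom.hom.comp (algebraMap Γ(X, U) Γ(Spec (CommRingCat.of Ω), f ⁻¹ᵁ U)) = (val X x Ω hx).hom :=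
        RingHom.ext hb
      rw [e, hb]
      exact hpe
    let eI := f.normalizationObjIso hU
    have hle : f ⁻¹ᵁ U ≤ f.toNormalization ⁻¹ᵁ (f.fromNormalization ⁻¹ᵁ U) := by
      rw [← Scheme.Hom.comp_preimage, Scheme.Hom.toNormalization_fromNormalization]
    let c : Γ(f.normalization, f.fromNormalization ⁻¹ᵁ U) := eI.inv ⟨_, hint⟩
    let d : Γ(f.normalization, f.fromNormalization ⁻¹ᵁ U) := f.fromNormalization.app U a
    have hc : f.toNormalization.appLE _ (f ⁻¹ᵁ U) hle c = w * (f.app U) a := by
      rw [← ConcreteCategory.congr_hom (f.normalizationObjIso_hom_val hU) c]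
      show ((eI.hom (eI.inv ⟨_, hint⟩) : integralClosure Γ(X, U) Γ(Spec (CommRingCat.of Ω), f ⁻¹ᵁ U)) : Γ(Spec (CommRingCat.of Ω), f ⁻¹ᵁ U)) = _
      rw [← ConcreteCategory.comp_apply, Iso.inv_hom_id]
      rfl
    have hd : f.toNormalization.appLE _ (f ⁻¹ᵁ U) hle d = (f.app U) a := by
      refine ConcreteCategory.congr_hom (?_ : f.fromNormalization.app U ≫ f.toNormalization.appLE _ _ hle = f.app U) a
      rw [Scheme.Hom.app_eq_appLE, Scheme.Hom.appLE_comp_appLE, Scheme.Hom.app_eq_appLE]
      congr 1
      exact f.toNormalization_fromNormalization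
    have hy : f.toNormalization o ∈ f.fromNormalization ⁻¹ᵁ U := hle hoV
    have key : ∀ r, f.toNormalization.stalkMap o (f.normalization.presheaf.germ _ _ hy r) =
        (Spec (CommRingCat.of Ω)).presheaf.germ (f ⁻¹ᵁ U) o hoV (f.toNormalization.appLE _ (f ⁻¹ᵁ U) hle r) := by
      intro r
      rw [Scheme.Hom.germ_stalkMap_apply, Scheme.Hom.appLE, CommRingCat.comp_apply,
        TopCat.Presheaf.germ_res_apply]
    have hu : IsUnit ((f.app U) a) := by
      have h : IsUnit (ε.hom ((f.app U) a)) := by rw [hb]; exact isUnit_iff_ne_zero.2 ha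
      have h2 := h.map ε.inv.hom
      rwa [show ε.inv.hom (ε.hom ((f.app U) a)) = (f.app U) a from
        CategoryTheory.Iso.hom_inv_id_apply ε _] at h2
    have hud : IsUnit (f.normalization.presheaf.germ _ _ hy d) := by
      refine (isUnit_map_iff (f.toNormalization.stalkMap o).hom _).1 ?_
      rw [key, hd]
      exact hu.map _
    refine ⟨f.normalization.presheaf.germ _ _ hy c * ↑hud.unit⁻¹, ?_⟩
    refine (hu.map ((Spec (CommRingCat.of Ω)).presheaf.germ (f ⁻¹ᵁ U) o hoV).hom).mul_right_cancel ?_
    rw [map_mul, mul_assoc]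
    have h2 : f.toNormalization.stalkMap o ↑hud.unit⁻¹ *
        (Spec (CommRingCat.of Ω)).presheaf.germ (f ⁻¹ᵁ U) o hoV ((f.app U) a) = 1 := by
      rw [← hd, ← key, ← map_mul, IsUnit.val_inv_mul, map_one]
    rw [h2, mul_one, key, hc, map_mul]⟩
  exact ⟨Topology.IsEmbedding.of_subsingleton _⟩

/-- The point is the generic point of the normalization. -/
theorem range_toNormalization :
    Set.range (pt X x Ω).toNormalization = {genericPoint (pt X x Ω).normalization} := by
  haveI hs : Subsingleton (Spec (CommRingCat.of Ω)) := inferInstanceAs (Subsingleton (PrimeSpectrum Ω))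
  let f := pt X x Ω
  let o : Spec (CommRingCat.of Ω) := default
  have h1 : Set.range f.toNormalization = {f.toNormalization o} :=
    Set.ext fun z => ⟨by rintro ⟨w, rfl⟩; rw [Subsingleton.elim w o]; rfl, fun hz => ⟨o, hz.symm⟩⟩
  have h2 := f.toNormalization.denseRange.closure_range
  rw [h1] at h2 ⊢
  rw [(show IsGenericPoint (f.toNormalization o) ⊤ from h2).eq (genericPoint_spec _)]

/-- Constant sheaves on the normalization are direct images from the point. -/
theorem isIso_unit_const (M : Type) [AddCommGroup M] :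
    IsIso ((EtCoh.pullPushAdj (pt X x Ω).toNormalization).unit.app
      (EtCoh.const (pt X x Ω).normalization M)) := by
  haveI : IsIntegral (Spec (CommRingCat.of Ω)) := inferInstance
  have hΩ : ∀ o : Spec (CommRingCat.of Ω), IsIntegrallyClosed ((Spec (CommRingCat.of Ω)).presheaf.stalk o) := fun o => by
    letI := (Spec (CommRingCat.of Ω)).presheaf.algebra_section_stalk (U := ⊤) ⟨o, trivial⟩
    haveI : IsIntegrallyClosed Γ(Spec (CommRingCat.of Ω), ⊤) :=
      IsIntegrallyClosed.of_equiv (Scheme.ΓSpecIso (CommRingCat.of Ω)).symm.commRingCatIsoToRingEquiv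
    haveI := (isAffineOpen_top (Spec (CommRingCat.of Ω))).isLocalization_stalk ⟨o, trivial⟩
    exact isIntegrallyClosed_of_isLocalization _
      ((isAffineOpen_top (Spec (CommRingCat.of Ω))).primeIdealOf ⟨o, trivial⟩).asIdeal.primeCompl
      (Ideal.primeCompl_le_nonZeroDivisors _)
  exact NormSep24.isIso_unit_const_point (pt X x Ω).toNormalization (range_toNormalization X x Ω)
    (fun y => (NeronEt19.isNormalScheme_normalization (pt X x Ω) hΩ y).2) M

end Groth.Agent.Embed24
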