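import Groth.Agent.Lib.EtLim24.Base
import Groth.Agent.Lib.EtAcyc24.Basis
import Groth.Agent.Lib.EtColim.Sections24

/-!
# Direct images along the projections of a limit form a colimit
-/

set_option autoImplicit false
set_option linter.style.haveILetI false
set_option linter.unusedSectionVars false
set_option backward.isDefEq.respectTransparency.types false

universe u

open CategoryTheory CategoryTheory.Limits AlgebraicGeometry Opposite

namespace Groth.Agent.Embed24

open Groth.Agent.EtStalk Groth.Agent.EtLim24 Groth.Agent.EtAcyc24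

/-- Affine etale schemes form a basis. -/
theorem isEtBasis_affine (X : Scheme.{u}) : IsEtBasis fun W : X.Etale => IsAffine W.left := fun W w => by
  obtain ⟨O, hO, hw, -⟩ := exists_isAffineOpen_mem_and_subset (X := W.left) (x := w) (U := ⊤) trivial
  exact ⟨EtSite.sub W O, EtSite.subHom W O, ⟨w, hw⟩, hO, rfl⟩

/-- Units along isomorphisms are isomorphisms. -/
theorem isIso_uHom_of_isIso {A B : Scheme.{u}} (v : A ⟶ B) [IsIso v] (G : EtCoh.Ab B) : IsIso (uHom v G) := by
  haveI : AlgebraicGeometry.Etale v := inferInstance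
  refine isIso_of_bijective_basis (B := fun _ => True) (fun W w => ⟨W, 𝟙 W, w, trivial, rfl⟩) _ fun V _ => ?_
  haveI : IsIso (bcFst v V) := by
    show IsIso (pullback.fst V.hom v)
    infer_instance
  have h := bijective_map_unit v G (𝟙 ((EtCoh.bc v).obj V))
    ((show IsIso (𝟙 ((EtCoh.bc v).obj V).left ≫ bcFst v V) by rw [Category.id_comp]; infer_instance))
  have e : (fun t => ((EtCoh.pull v).obj G).obj.map (𝟙 ((EtCoh.bc v).obj V)).op ((uHom v G).hom.app (op V) t)) =
      (uHom v G).hom.app (op V) := funext fun t => by rw [op_id, CategoryTheory.Functor.map_id]; rfl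
  rwa [e] at h

variable {X : Scheme.{u}} [CompactSpace X] [QuasiSeparatedSpace X]
  {ι : Type u} [Preorder ι] [IsDirected ι (· ≤ ·)] [Nonempty ι]
  {Xs : ιᵒᵖ ⥤ Scheme.{u}} {c : Cone Xs} (b : ∀ i : ι, Xs.obj (op i) ⟶ X)
  (hb : ∀ ⦃i j : ι⦄ (h : i ≤ j), uM Xs h ≫ b i = b j)
  (b' : c.pt ⟶ X) (hb' : ∀ i, pr Xs c i ≫ b i = b') (F₀ : EtCoh.Ab X)

/-- The sheaves at the stages. -/
noncomputable abbrev stgObj (i : ι) : EtCoh.Ab X := (EtCoh.push (b i)).obj ((EtCoh.pull (b i)).obj F₀)

/-- The transition maps. -/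
noncomputable abbrev stgMap {i j : ι} (h : i ≤ j) : stgObj b F₀ i ⟶ stgObj b F₀ j :=
  (EtCoh.push (b i)).map (bt b hb F₀ h) ≫ (pc (uM Xs h) (b i) (b j) (hb h)).hom.app _

lemma stgMap_comp {i j k : ι} (h₁ : i ≤ j) (h₂ : j ≤ k) :
    stgMap b hb F₀ (h₁.trans h₂) = stgMap b hb F₀ h₁ ≫ stgMap b hb F₀ h₂ := by
  have hA := pc_assoc (uM Xs h₂) (uM Xs h₁) (b i) (uM Xs (h₁.trans h₂)) (b j) (b k) (uM_comp h₁ h₂) (hb h₁)
    (hb (h₁.trans h₂)) (hb h₂) ((EtCoh.pull (b k)).obj F₀)
  simp only [stgMap, bt_cocycle b hb F₀ h₁ h₂, Functor.map_comp, Category.assoc, tcomp]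
  erw [hA]
  have hn := (pc (uM Xs h₁) (b i) (b j) (hb h₁)).hom.naturality (bt b hb F₀ h₂)
  erw [← Category.assoc ((EtCoh.push (b i)).map ((EtCoh.push (uM Xs h₁)).map _)), hn]
  simp only [Category.assoc]

lemma stgMap_refl (i : ι) : stgMap b hb F₀ (le_refl i) = 𝟙 _ := by
  haveI : IsIso (uM Xs (le_refl i)) := by
    have : uM Xs (le_refl i) = 𝟙 _ := Xs.map_id (op i)
    rw [this]
    infer_instance
  have ht : bt b hb F₀ (le_refl i) = uHom (uM Xs (le_refl i)) ((EtCoh.pull (b i)).obj F₀) ≫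
      (EtCoh.push (uM Xs (le_refl i))).map ((pullT (uM Xs (le_refl i)) (b i) (b i) (hb (le_refl i))).inv.app F₀) :=
    Adjunction.homEquiv_unit _ _ _ _
  haveI := isIso_uHom_of_isIso (uM Xs (le_refl i)) ((EtCoh.pull (b i)).obj F₀)
  haveI : IsIso (bt b hb F₀ (le_refl i)) := by rw [ht]; infer_instance
  haveI : IsIso (stgMap b hb F₀ (le_refl i)) := by unfold stgMap; infer_instance
  rw [← cancel_epi (stgMap b hb F₀ (le_refl i)), Category.comp_id]
  exact (stgMap_comp b hb F₀ (le_refl i) (le_refl i)).symm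

/-- The diagram of direct images. -/
noncomputable def stgDiag : ι ⥤ EtCoh.Ab X where
  obj i := stgObj b F₀ i
  map h := stgMap b hb F₀ (leOfHom h)
  map_id i := stgMap_refl b hb F₀ i
  map_comp f g := stgMap_comp b hb F₀ (leOfHom f) (leOfHom g)

/-- The maps to the direct image from the limit. -/
noncomputable abbrev stgι (i : ι) : stgObj b F₀ i ⟶ (EtCoh.push b').obj ((EtCoh.pull b').obj F₀) :=
  (EtCoh.push (b i)).map (bη b b' hb' F₀ i) ≫ (pc (pr Xs c i) (b i) b' (hb' i)).hom.app _

lemma push_bmap {i j : ι} (h : i ≤ j) {M : EtCoh.Ab (Xs.obj (op j))} {G : EtCoh.Ab c.pt}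
    (a : M ⟶ (EtCoh.push (pr Xs c j)).obj G) :
    (EtCoh.push (b i)).map (bmap h a) ≫ (pc (pr Xs c i) (b i) b' (hb' i)).hom.app G =
      (pc (uM Xs h) (b i) (b j) (hb h)).hom.app M ≫ (EtCoh.push (b j)).map a ≫
        (pc (pr Xs c j) (b j) b' (hb' j)).hom.app G := by
  have hA := pc_assoc (pr Xs c j) (uM Xs h) (b i) (pr Xs c i) (b j) b' (pr_w h) (hb h) (hb' i) (hb' j) G
  simp only [bmap, Functor.map_comp, Category.assoc]
  erw [hA]
  have hn := (pc (uM Xs h) (b i) (b j) (hb h)).hom.naturality a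
  erw [← Category.assoc ((EtCoh.push (b i)).map ((EtCoh.push (uM Xs h)).map a)), hn]
  simp only [Category.assoc]

lemma stgMap_ι {i j : ι} (h : i ≤ j) : stgMap b hb F₀ h ≫ stgι b b' hb' F₀ j = stgι b b' hb' F₀ i := by
  refine (Category.assoc _ _ _).trans ?_
  refine (congrArg (fun q => (EtCoh.push (b i)).map (bt b hb F₀ h) ≫ q)
    (push_bmap b hb b' hb' h (bη b b' hb' F₀ j)).symm).trans ?_
  rw [← Category.assoc, ← Functor.map_comp, bt_bη]

/-- The direct image from the limit as a cocone. -/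
noncomputable def stgCocone : Cocone (stgDiag b hb F₀) where
  pt := (EtCoh.push b').obj ((EtCoh.pull b').obj F₀)
  ι :=
    { app := fun i => stgι b b' hb' F₀ i
      naturality := fun _ _ h => (stgMap_ι b hb b' hb' F₀ (leOfHom h)).trans (Category.comp_id _).symm }

lemma qcqs_bc_affine {A : Scheme.{u}} (v : A ⟶ X) [CompactSpace A] [QuasiSeparatedSpace A] (V : X.Etale)
    [IsAffine V.left] : CompactSpace ((EtCoh.bc v).obj V).left ∧ QuasiSeparatedSpace ((EtCoh.bc v).obj V).left := by
  haveI : QuasiCompact v := inferInstance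
  haveI : QuasiSeparated v := inferInstance
  haveI hq : QuasiCompact (pullback.fst V.hom v) := MorphismProperty.pullback_fst _ _ inferInstance
  haveI hs : QuasiSeparated (pullback.fst V.hom v) := MorphismProperty.pullback_fst _ _ inferInstance
  exact ⟨@QuasiCompact.compactSpace_of_compactSpace _ _ (pullback.fst V.hom v) hq
      (inferInstanceAs (CompactSpace ↥V.left)),
    @quasiSeparatedSpace_of_quasiSeparated _ _ (pullback.fst V.hom v)
      (inferInstanceAs (QuasiSeparatedSpace ↥V.left)) hs⟩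

variable [∀ i : ι, CompactSpace ↥(Xs.obj (op i))] [∀ i : ι, QuasiSeparatedSpace ↥(Xs.obj (op i))]

/-- The direct image from the limit is the colimit. -/
theorem nonempty_isColimit_stgCocone (haff : ∀ ⦃a b : ιᵒᵖ⦄ (h : a ⟶ b), IsAffineHom (Xs.map h)) (hc : IsLimit c) :
    Nonempty (IsColimit (stgCocone b hb b' hb' F₀)) := by
  have hS := isLim_baseSys b hb b' hb' F₀ haff hc
  let S := baseSys b hb b' hb' F₀
  have hSa : ∀ i, S.a i = bη b b' hb' F₀ i := fun i => by
    show bη b b' hb' F₀ i ≫ (EtCoh.push (pr Xs c i)).map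
      ((constCocone ι ((EtCoh.pull b').obj F₀)).ι.app i) = _
    rw [show (constCocone ι ((EtCoh.pull b').obj F₀)).ι.app i = 𝟙 _ from rfl]
    erw [CategoryTheory.Functor.map_id, Category.comp_id]
  let cc := stgCocone b hb b' hb' F₀
  haveI : IsIso ((colimit.isColimit (stgDiag b hb F₀)).desc cc) := by
    refine isIso_of_bijective_basis (isEtBasis_affine X) _ fun V hV => ?_
    haveI := hV
    haveI : CompactSpace V.left := inferInstance
    haveI : QuasiSeparatedSpace V.left := inferInstance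
    have hfac : ∀ (i : ι) (t : (stgObj b F₀ i).obj.obj (op V)),
        ((colimit.isColimit (stgDiag b hb F₀)).desc cc).hom.app (op V)
          (((colimit.cocone (stgDiag b hb F₀)).ι.app i).hom.app (op V) t) = (cc.ι.app i).hom.app (op V) t := fun i t =>
      congrArg (fun q : stgObj b F₀ i ⟶ cc.pt => q.hom.app (op V) t)
        ((colimit.isColimit (stgDiag b hb F₀)).fac cc i)
    constructor
    · refine (injective_iff_map_eq_zero _).2 fun σ hσ => ?_
      obtain ⟨i, t, rfl⟩ := EtColim.exists_sec_rep V (colimit.isColimit (stgDiag b hb F₀)) σ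
      rw [hfac] at hσ
      have hq := qcqs_bc_affine (b i) V
      have h0 : (S.a i).hom.app (op ((EtCoh.bc (b i)).obj V)) t = 0 := by
        rw [hSa]
        refine (ConcreteCategory.bijective_of_isIso
          (((pc (pr Xs c i) (b i) b' (hb' i)).hom.app ((EtCoh.pull b').obj F₀)).hom.app (op V))).1 ?_
        exact hσ.trans (map_zero _).symm
      obtain ⟨j, h, hj⟩ := hS.inj i _ hq.1 hq.2 t h0
      have e : ((stgDiag b hb F₀).map (homOfLE h)).hom.app (op V) t = 0 := by
        show (stgMap b hb F₀ h).hom.app (op V) t = 0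
        exact (congrArg (((pc (uM Xs h) (b i) (b j) (hb h)).hom.app _).hom.app (op V)) hj).trans (map_zero _)
      rw [← (colimit.cocone (stgDiag b hb F₀)).w (homOfLE h)]
      exact (congrArg (((colimit.cocone (stgDiag b hb F₀)).ι.app j).hom.app (op V)) e).trans (map_zero _)
    · intro s
      let i := Classical.arbitrary ι
      have hq := qcqs_bc_affine (b i) V
      let s' := ((pc (pr Xs c i) (b i) b' (hb' i)).inv.app ((EtCoh.pull b').obj F₀)).hom.app (op V) s
      obtain ⟨j, h, y, hy⟩ := hS.surj i ((EtCoh.bc (b i)).obj V) hq.1 hq.2 s'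
      let z := ((pc (uM Xs h) (b i) (b j) (hb h)).hom.app ((EtCoh.pull (b j)).obj F₀)).hom.app (op V) y
      refine ⟨((colimit.cocone (stgDiag b hb F₀)).ι.app j).hom.app (op V) z, ?_⟩
      rw [hfac]
      rw [hSa] at hy
      refine (congrArg (fun q : (EtCoh.push (b i)).obj ((EtCoh.push (uM Xs h)).obj ((EtCoh.pull (b j)).obj F₀)) ⟶ _ =>
        q.hom.app (op V) y) (push_bmap b hb b' hb' h (bη b b' hb' F₀ j))).symm.trans ?_
      refine (congrArg (((pc (pr Xs c i) (b i) b' (hb' i)).hom.app _).hom.app (op V)) hy).trans ?_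
      exact congrArg (fun q : (EtCoh.push b').obj ((EtCoh.pull b').obj F₀) ⟶ _ => q.hom.app (op V) s)
        ((pc (pr Xs c i) (b i) b' (hb' i)).inv_hom_id_app _)
  exact ⟨IsColimit.ofPointIso (colimit.isColimit (stgDiag b hb F₀)) (i := ‹_›)⟩

end Groth.Agent.Embed24
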