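import Groth.Agent.Lib.LocAcyc24.Rel
import Groth.Agent.Lib.EtAcyc24.Basis
import Groth.Agent.Lib.EtDesc24.SepClosed
import Groth.Agent.Lib.Constr24.Agree

/-!
# Constructible sheaves at separably closed points are constant
-/

set_option autoImplicit false
set_option linter.style.haveILetI false
set_option linter.unusedSectionVars false
set_option backward.isDefEq.respectTransparency.types false

universe u

open CategoryTheory CategoryTheory.Limits AlgebraicGeometry Opposite

namespace Groth.Agent.Embed24

open Groth.Agent.EtStalk Groth.Agent.LocAcyc24 Groth.Agent.EtAcyc24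

variable (R : Type u) [Field R] [IsSepClosed (IsLocalRing.ResidueField R)]

/-- Over a separably closed field the whole spectrum forms a basis. -/
theorem isEtBasis_top : IsEtBasis fun W : (Spec (CommRingCat.of R)).Etale =>
    Nonempty (EtCoh.top (Spec (CommRingCat.of R)) ≅ W) := fun W w => by
  haveI : Subsingleton (Spec (CommRingCat.of R)) := inferInstanceAs (Subsingleton (PrimeSpectrum R))
  obtain ⟨φ, hφ⟩ := EtDesc24.exists_fib_of_subsingleton (closedPt R) W w
  obtain ⟨σ, hσ⟩ := exists_section R φ
  refine ⟨EtCoh.top _, σ, (topFib R).left (default : Spec (CommRingCat.of (IsLocalRing.ResidueField R))), ⟨Iso.refl _⟩, ?_⟩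
  rw [← hφ, ← hσ]
  rfl

/-- Sheaves with finite sections over a separably closed field are constant. -/
theorem exists_iso_const (G : EtCoh.Ab (Spec (CommRingCat.of R)))
    [Finite (G.obj.obj (op (EtCoh.top (Spec (CommRingCat.of R)))))] :
    ∃ (M : Type) (_ : AddCommGroup M) (_ : Finite M),
      Nonempty (G ≅ EtCoh.const (Spec (CommRingCat.of R)) M) := by
  let N := G.obj.obj (op (EtCoh.top (Spec (CommRingCat.of R))))
  obtain ⟨k, ⟨e⟩⟩ := Finite.exists_equiv_fin N
  obtain ⟨M, _, _, ⟨e'⟩⟩ : ∃ (M : Type) (_ : AddCommGroup M) (_ : Finite M), Nonempty (M ≃+ N) := by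
    let M : Type := { n : ℕ // n < k }
    let eM : M ≃ N := Fin.equivSubtype.symm.trans e.symm
    letI : AddCommGroup M := eM.addCommGroup
    exact ⟨M, inferInstance, Finite.of_equiv _ eM.symm, ⟨eM.addEquiv⟩⟩
  refine ⟨M, inferInstance, inferInstance, ?_⟩
  let A : AddCommGrpCat.{u + 1} := AddCommGrpCat.of (ULift.{u + 1} M)
  let ε : A ≅ N := (AddEquiv.ulift.trans e').toAddCommGrpIso
  let adj := constantSheafAdj (Spec (CommRingCat.of R)).smallEtaleTopology AddCommGrpCat.{u + 1}
    (EtCore.topIsTerminal (Spec (CommRingCat.of R)))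
  let κ : (cs (Spec (CommRingCat.of R))).obj A ⟶ G := (adj.homEquiv A G).symm ε.hom
  have hunit : Function.Bijective (adj.unit.app A) := bijective_cst_top R A
  have htop : Function.Bijective (κ.hom.app (op (EtCoh.top (Spec (CommRingCat.of R))))) := by
    have h : adj.homEquiv A G κ = ε.hom := Equiv.apply_symm_apply _ _
    rw [Adjunction.homEquiv_unit] at h
    refine (Function.Bijective.of_comp_iff _ hunit).1 ?_
    have e' : (κ.hom.app (op (EtCoh.top (Spec (CommRingCat.of R))))) ∘ (adj.unit.app A) = ε.hom := by
      funext a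
      exact congrArg (fun q : A ⟶ N => q a) h
    rw [e']
    exact ConcreteCategory.bijective_of_isIso ε.hom
  haveI : IsIso κ := isIso_of_bijective_basis (isEtBasis_top R) κ fun W ⟨j⟩ => by
    haveI : IsIso ((sheafToPresheaf _ _).obj ((cs (Spec (CommRingCat.of R))).obj A) |>.map j.inv.op) := inferInstance
    haveI : IsIso (G.obj.map j.inv.op) := inferInstance
    have hn : κ.hom.app (op W) ∘ ((cs (Spec (CommRingCat.of R))).obj A).obj.map j.inv.op =
        G.obj.map j.inv.op ∘ κ.hom.app (op (EtCoh.top _)) :=
      funext fun s => NatTrans.naturality_apply κ.hom j.inv.op s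
    refine (Function.Bijective.of_comp_iff _
      (ConcreteCategory.bijective_of_isIso (((cs (Spec (CommRingCat.of R))).obj A).obj.map j.inv.op))).1 ?_
    rw [hn]
    exact (ConcreteCategory.bijective_of_isIso (G.obj.map j.inv.op)).comp htop
  exact ⟨(asIso κ).symm⟩

/-- A constructible sheaf has constant inverse image at a separably closed point. -/
theorem exists_pull_iso_const {X : Scheme.{u}} (ξ : Spec (CommRingCat.of R) ⟶ X) {F : EtCoh.Ab X}
    (hF : EtPBC.IsConstructible F) :
    ∃ (M : Type) (_ : AddCommGroup M) (_ : Finite M),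
      Nonempty ((EtCoh.pull ξ).obj F ≅ EtCoh.const (Spec (CommRingCat.of R)) M) := by
  haveI : Finite ((EtCoh.stalk (closedPt R ≫ ξ)).obj F) := Constr24.finite_stalk hF _
  haveI : Finite ((EtCoh.stalk (closedPt R)).obj ((EtCoh.pull ξ).obj F)) :=
    Finite.of_surjective _ (ConcreteCategory.bijective_of_isIso (stalkPull ξ (closedPt R) F)).2
  haveI : Finite (((EtCoh.pull ξ).obj F).obj.obj (op (EtCoh.top (Spec (CommRingCat.of R))))) :=
    Finite.of_injective _ (bijective_germ_top R _).1
  exact exists_iso_const R _

end Groth.Agent.Embed24
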