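import Groth.Agent.Lib.Embed24.GenPoint
import Groth.Agent.Lib.Embed24.PushColim
import Groth.Agent.Lib.Embed24.Sep
import Groth.Agent.Lib.Constr24.SuppColim
import Groth.Agent.Lib.Constr24.PushFinite
import Groth.Agent.S0139
import Groth.Agent.S7382

/-!
# Constructible sheaves embed into direct images of constant sheaves along finite morphisms
-/

set_option autoImplicit false
set_option linter.style.haveILetI false
set_option linter.unusedSectionVars false
set_option backward.isDefEq.respectTransparency.types false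

universe u

open CategoryTheory CategoryTheory.Limits AlgebraicGeometry Opposite

namespace Groth.Agent.Embed24

open Groth.Agent.EtStalk Groth.Agent.EtLim24

variable {X : Scheme.{u}}

/-- The map into the direct image from the normalization. -/
theorem exists_map_normalization {F : EtCoh.Ab X} (hF : EtPBC.IsConstructible F) (x : X)
    (Ω : Type u) [Field Ω] [IsSepClosed Ω] [Algebra (X.residueField x) Ω]
    [Algebra.IsAlgebraic (X.residueField x) Ω] [QuasiCompact (pt X x Ω)] [QuasiSeparated (pt X x Ω)] :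
    ∃ (M : Type) (_ : AddCommGroup M) (_ : Finite M)
      (a : F ⟶ (EtCoh.push (pt X x Ω).fromNormalization).obj
        ((EtCoh.pull (pt X x Ω).fromNormalization).obj (EtCoh.const X M))),
      Mono ((EtCoh.pull (pt X x Ω)).map a) := by
  haveI : IsSepClosed (IsLocalRing.ResidueField Ω) := EtDesc24.isSepClosed_residueField Ω
  let f := pt X x Ω
  let π := f.fromNormalization
  let j := f.toNormalization
  obtain ⟨M, _, _, ⟨e⟩⟩ := exists_pull_iso_const Ω f hF
  let G := (EtCoh.pull π).obj (EtCoh.const X M)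
  let u := (EtCoh.pullPushAdj j).unit.app G
  haveI : IsIso u := by
    haveI := isIso_unit_const X x Ω M
    have hn := (EtCoh.pullPushAdj j).unit.naturality (EtCore.pullConst π M).hom
    haveI : IsIso ((EtCoh.pullPushAdj j).unit.app G ≫
        (EtCoh.pull j ⋙ EtCoh.push j).map (EtCore.pullConst π M).hom) := by
      rw [← hn]; infer_instance
    exact IsIso.of_isIso_comp_right u ((EtCoh.pull j ⋙ EtCoh.push j).map (EtCore.pullConst π M).hom)
  let σ := EtCore.pullCongr (f.toNormalization_fromNormalization).symm ≪≫ EtCore.pullComp j π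
  let θ : (EtCoh.pull j).obj ((EtCoh.pull π).obj F) ≅ (EtCoh.pull j).obj G :=
    (σ.app F).symm ≪≫ e ≪≫ (EtCore.pullConst f M).symm ≪≫ σ.app (EtCoh.const X M)
  let φ : (EtCoh.pull π).obj F ⟶ G := (EtCoh.pullPushAdj j).homEquiv _ _ θ.hom ≫ inv u
  have hjφ : (EtCoh.pull j).map φ = θ.hom := by
    apply ((EtCoh.pullPushAdj j).homEquiv _ _).injective
    rw [Adjunction.homEquiv_unit _ _ _ ((EtCoh.pull j).map φ)]
    refine ((EtCoh.pullPushAdj j).unit.naturality φ).symm.trans ?_
    show ((EtCoh.pullPushAdj j).homEquiv _ _ θ.hom ≫ inv u) ≫ u = _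
    rw [Category.assoc, IsIso.inv_hom_id, Category.comp_id]
  refine ⟨M, inferInstance, inferInstance, (EtCoh.pullPushAdj π).homEquiv _ _ φ, ?_⟩
  let a := (EtCoh.pullPushAdj π).homEquiv _ _ φ
  have ha : (EtCoh.pull π).map a ≫ (EtCoh.pullPushAdj π).counit.app G = φ :=
    ((EtCoh.pullPushAdj π).homEquiv_counit _ _ a).symm.trans (Equiv.symm_apply_apply _ φ)
  haveI : IsIso ((EtCoh.pull j).map ((EtCoh.pull π).map a) ≫
      (EtCoh.pull j).map ((EtCoh.pullPushAdj π).counit.app G)) := by
    rw [← Functor.map_comp, ha, hjφ]; infer_instance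
  haveI : Mono ((EtCoh.pull π ⋙ EtCoh.pull j).map a) :=
    mono_of_mono ((EtCoh.pull j).map ((EtCoh.pull π).map a))
      ((EtCoh.pull j).map ((EtCoh.pullPushAdj π).counit.app G))
  have hn := σ.hom.naturality a
  have : Mono ((EtCoh.pull f).map a ≫ σ.hom.app _) := by rw [hn]; infer_instance
  exact mono_of_mono ((EtCoh.pull f).map a) (σ.hom.app _)

variable [CompactSpace X] [QuasiSeparatedSpace X]

/-- A map into one direct image, injective around a point. -/
theorem exists_partial {F : EtCoh.Ab X} (hF : EtPBC.IsConstructible F) (x : X) :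
    ∃ (Y : Scheme.{u}) (f : Y ⟶ X) (_ : IsFinite f) (_ : LocallyOfFinitePresentation f) (M : Type)
      (_ : AddCommGroup M) (_ : Finite M) (a : F ⟶ (EtCoh.push f).obj (EtCoh.const Y M)),
      Topology.IsConstructible (Constr24.zeroLocus (kernel a)) ∧ x ∈ Constr24.zeroLocus (kernel a) := by
  let Ω := SeparableClosure (X.residueField x)
  let ξ := pt X x Ω
  haveI : QuasiCompact ξ := inferInstance
  haveI : QuasiSeparated ξ := inferInstance
  obtain ⟨M, _, _, a, ha⟩ := exists_map_normalization hF x Ω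
  obtain ⟨I, _, _, _, D, c, hc, hD, ⟨ec⟩⟩ := S7382.result ξ.fromNormalization
  let Xs := D ⋙ Over.forget X
  let cs := (Over.forget X).mapCone c
  haveI : CategoryTheory.IsConnected Iᵒᵖ := IsCofiltered.isConnected _
  have hcs : IsLimit cs := isLimitOfPreserves (Over.forget X) hc
  let b : ∀ i : I, Xs.obj (op i) ⟶ X := fun i => (D.obj (op i)).hom
  have hb : ∀ ⦃i j : I⦄ (h : i ≤ j), uM Xs h ≫ b i = b j := fun i j h => Over.w (D.map (homOfLE h).op)
  let b' : cs.pt ⟶ X := c.pt.hom
  have hb' : ∀ i, pr Xs cs i ≫ b i = b' := fun i => Over.w (c.π.app (op i))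
  have hbfin : ∀ i : I, IsFinite (b i) := fun i => (hD (op i)).1
  have hbfp : ∀ i : I, LocallyOfFinitePresentation (b i) := fun i => (hD (op i)).2
  haveI : ∀ i : I, CompactSpace ↥(Xs.obj (op i)) := fun i => by
    haveI : IsAffineHom (b i) := @IsFinite.toIsAffineHom _ _ _ (hbfin i)
    haveI : QuasiCompact (b i) := inferInstance
    exact QuasiCompact.compactSpace_of_compactSpace (b i)
  haveI : ∀ i : I, QuasiSeparatedSpace ↥(Xs.obj (op i)) := fun i => by
    haveI : IsAffineHom (b i) := @IsFinite.toIsAffineHom _ _ _ (hbfin i)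
    haveI : QuasiSeparated (b i) := inferInstance
    exact quasiSeparatedSpace_of_quasiSeparated (b i)
  have haff : ∀ ⦃k l : Iᵒᵖ⦄ (h : k ⟶ l), IsAffineHom (Xs.map h) := fun k l h => by
    haveI : IsAffineHom (b k.unop) := @IsFinite.toIsAffineHom _ _ _ (hbfin k.unop)
    haveI : IsAffineHom (b l.unop) := @IsFinite.toIsAffineHom _ _ _ (hbfin l.unop)
    have hc' : IsAffineHom (Xs.map h ≫ b l.unop) := by
      rw [show Xs.map h ≫ b l.unop = b k.unop from Over.w (D.map h)]
      infer_instance
    exact MorphismProperty.of_postcomp (W := @IsAffineHom) (W' := @IsSeparated) _ (b l.unop) inferInstance hc'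
  let F₀ := EtCoh.const X M
  let ecl : cs.pt ⟶ ξ.normalization := ((Over.forget X).mapIso ec).hom
  let a' : F ⟶ (EtCoh.push b').obj ((EtCoh.pull b').obj F₀) :=
    a ≫ (EtCoh.push ξ.fromNormalization).map ((EtCoh.pullPushAdj ecl).homEquiv _ _
      ((pullT ecl ξ.fromNormalization b' (Over.w ec.hom)).inv.app F₀)) ≫
      (pc ecl ξ.fromNormalization b' (Over.w ec.hom)).hom.app _
  have hma' : Mono ((EtCoh.pull ξ).map a') := by
    haveI : IsIso ecl := by
      show IsIso ((Over.forget X).mapIso ec).hom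
      infer_instance
    haveI := isIso_uHom_of_isIso ecl ((EtCoh.pull ξ.fromNormalization).obj F₀)
    haveI : IsIso ((EtCoh.pullPushAdj ecl).homEquiv _ _
        ((pullT ecl ξ.fromNormalization b' (Over.w ec.hom)).inv.app F₀)) := by
      rw [Adjunction.homEquiv_unit]
      exact IsIso.comp_isIso' (isIso_uHom_of_isIso ecl _) inferInstance
    haveI := ha
    simp only [a', Functor.map_comp]
    infer_instance
  obtain ⟨hcc⟩ := nonempty_isColimit_stgCocone b hb b' hb' F₀ haff hcs
  haveI := S0139.result X F hF I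
  obtain ⟨i, a₀, ha₀⟩ := Types.jointly_surjective _
    (isColimitOfPreserves (coyoneda.obj (op F)) hcc) a'
  have ha₀' : a₀ ≫ (stgCocone b hb b' hb' F₀).ι.app i = a' := ha₀
  haveI : IsFinite (b i) := hbfin i
  haveI : LocallyOfFinitePresentation (b i) := hbfp i
  let a₁ : F ⟶ (EtCoh.push (b i)).obj (EtCoh.const (Xs.obj (op i)) M) :=
    a₀ ≫ (EtCoh.push (b i)).map (EtCore.pullConst (b i) M).hom
  refine ⟨_, b i, inferInstance, inferInstance, M, inferInstance, inferInstance, a₁,
    Constr24.isConstructible_zeroLocus (Constr24.constructible_kernel a₁ hF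
      (Constr24.isConstructible_push_finite (b i) (Constr24.isConstructible_of_flc (LocConst24.flc_const _ M)))), ?_⟩
  haveI : Mono ((EtCoh.pull ξ).map a₁) := by
    have hcomp : Mono ((EtCoh.pull ξ).map a₀ ≫ (EtCoh.pull ξ).map ((stgCocone b hb b' hb' F₀).ι.app i)) := by
      rw [← Functor.map_comp, ha₀']; exact hma'
    haveI := hcomp
    have hm₀ : Mono ((EtCoh.pull ξ).map a₀) :=
      mono_of_mono _ ((EtCoh.pull ξ).map ((stgCocone b hb b' hb' F₀).ι.app i))
    show Mono ((EtCoh.pull ξ).map (a₀ ≫ _))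
    rw [Functor.map_comp]
    haveI : IsIso ((EtCore.pullConst (b i) M).hom) := inferInstance
    have hiso : IsIso ((EtCoh.push (b i)).map (EtCore.pullConst (b i) M).hom) :=
      ((EtCoh.push (b i)).mapIso (EtCore.pullConst (b i) M)).isIso_hom
    exact @mono_comp _ _ _ _ _ _ hm₀ _
      (((EtCoh.pull ξ).mapIso ((EtCoh.push (b i)).mapIso (EtCore.pullConst (b i) M))).isIso_hom |> fun h => @IsIso.mono_of_iso _ _ _ _ _ h)
  haveI : (EtCoh.pull ξ).Additive := (EtCoh.pullPushAdj ξ).left_adjoint_additive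
  have hk : IsZero ((EtCoh.pull ξ).obj (kernel a₁)) := by
    refine IsZero.of_iso ?_ (PreservesKernel.iso (EtCoh.pull ξ) a₁)
    exact isZero_kernel_of_mono _
  intro Ω' _ _ η hη
  haveI : IsSepClosed (IsLocalRing.ResidueField Ω) := EtDesc24.isSepClosed_residueField Ω
  have h0 : Subsingleton ((EtCoh.stalk (closedPt Ω ≫ ξ)).obj (kernel a₁)) := by
    haveI := AddCommGrpCat.subsingleton_of_isZero ((isZero_iff_stalk _).1 hk _ (closedPt Ω))
    exact (Equiv.ofBijective _ (ConcreteCategory.bijective_of_isIso (stalkPull ξ (closedPt Ω) (kernel a₁)))).subsingleton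
  refine AddCommGrpCat.subsingleton_of_isZero (Constr24.isZero_stalk_congr η (closedPt Ω ≫ ξ) ?_ h0)
  rw [Constr24.apply_default_of_range η hη, Scheme.Hom.comp_apply, pt_apply]

/-- Constructible sheaves embed into finite sums of direct images of constant sheaves. -/
theorem exists_embedding {F : EtCoh.Ab X} (hF : EtPBC.IsConstructible F) :
    ∃ (n : ℕ) (Y : Fin n → Scheme.{u}) (f : ∀ i, Y i ⟶ X) (_ : ∀ i, IsFinite (f i))
      (_ : ∀ i, LocallyOfFinitePresentation (f i))
      (M : Fin n → Type) (_ : ∀ i, AddCommGroup (M i)) (_ : ∀ i, Finite (M i))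
      (ι : F ⟶ ⨁ fun i => (EtCoh.push (f i)).obj (EtCoh.const (Y i) (M i))), Mono ι := by
  classical
  choose Y f hf hfp M hM hMf a hE hx using fun x : X => exists_partial hF x
  obtain ⟨t, ht⟩ := Constr24.exists_finite_subcover _ hE
    (Set.eq_univ_of_forall fun x => Set.mem_iUnion.2 ⟨x, hx x⟩)
  let e : Fin t.card ≃ t := t.equivFin.symm
  refine ⟨t.card, fun i => Y (e i).1, fun i => f (e i).1, fun i => hf _, fun i => hfp _, fun i => M (e i).1,
    fun i => hM _, fun i => hMf _, biproduct.lift fun i => a (e i).1, ?_⟩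
  let l := biproduct.lift fun i => a (e i).1
  refine Preadditive.mono_of_isZero_kernel l ?_
  rw [isZero_iff_stalk]
  intro Ω _ _ ξ
  obtain ⟨y, hyt, hy⟩ := Set.mem_iUnion₂.1 (ht.ge (Set.mem_univ (ξ default)))
  obtain ⟨i, hi⟩ := e.surjective ⟨y, hyt⟩
  let k : kernel l ⟶ kernel (a (e i).1) := kernel.lift _ (kernel.ι l) (by
    have h := congrArg (fun q => q ≫ biproduct.π (fun i => (EtCoh.push (f (e i).1)).obj
      (EtCoh.const (Y (e i).1) (M (e i).1))) i) (kernel.condition l)
    rw [Category.assoc, biproduct.lift_π, zero_comp] at h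
    exact h)
  haveI : Mono (k ≫ kernel.ι (a (e i).1)) := by rw [kernel.lift_ι]; infer_instance
  haveI : Mono k := mono_of_mono k (kernel.ι (a (e i).1))
  have hk : Mono k := inferInstance
  haveI : Subsingleton ((EtCoh.stalk ξ).obj (kernel (a (e i).1))) := by
    rw [hi]
    exact hy Ω ξ (Constr24.range_eq_singleton ξ)
  haveI : Subsingleton ((EtCoh.stalk ξ).obj (kernel l)) :=
    ((mono_iff_stalk k).1 hk Ω ξ).subsingleton
  exact AddCommGrpCat.isZero_of_subsingleton _

end Groth.Agent.Embed24
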